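import Cfsg.Agent.Lib.CosetEnum.ONOut.Defs

/-! Kernel checks. -/

set_option autoImplicit false
set_option maxRecDepth 100000

namespace Cfsg.Lib.CosetEnum.ONOut

theorem elems_ok : elemsOK = true := by
  decide +kernel

theorem kList_ok : kOK = true := by
  decide +kernel

theorem pair_ok : pairOK = true := by
  decide +kernel


end Cfsg.Lib.CosetEnum.ONOut
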