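import Cfsg.Agent.Lib.CosetEnum.ONOut.Defs

/-! Kernel checks. -/

set_option autoImplicit false
set_option maxRecDepth 100000

namespace Cfsg.Lib.CosetEnum.ONOut

theorem excl1_ok : exclOK wordU [12, 13] = true := by
  decide +kernel

theorem excl2_ok : exclOK (rep 2 wordU) [] = true := by
  decide +kernel

theorem excl4_ok : exclOK (rep 4 wordU) [] = true := by
  decide +kernel


end Cfsg.Lib.CosetEnum.ONOut
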