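import Cfsg.Agent.Lib.CosetEnum.ONOut.Defs

/-! Kernel checks. -/

set_option autoImplicit false
set_option maxRecDepth 100000

namespace Cfsg.Lib.CosetEnum.ONOut

theorem hit0_ok : hitOK 0 = true := by
  decide +kernel

theorem hit1_ok : hitOK 1 = true := by
  decide +kernel

theorem hit2_ok : hitOK 2 = true := by
  decide +kernel

theorem hit3_ok : hitOK 3 = true := by
  decide +kernel

theorem hit4_ok : hitOK 4 = true := by
  decide +kernel

theorem hit5_ok : hitOK 5 = true := by
  decide +kernel


end Cfsg.Lib.CosetEnum.ONOut
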