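import Cfsg.Agent.Lib.CosetEnum.ONOut.Defs

/-! Kernel checks. -/

set_option autoImplicit false
set_option maxRecDepth 100000

namespace Cfsg.Lib.CosetEnum.ONOut

theorem hit6_ok : hitOK 6 = true := by
  decide +kernel

theorem hit7_ok : hitOK 7 = true := by
  decide +kernel

theorem hit8_ok : hitOK 8 = true := by
  decide +kernel

theorem hit9_ok : hitOK 9 = true := by
  decide +kernel

theorem hit10_ok : hitOK 10 = true := by
  decide +kernel

theorem hit11_ok : hitOK 11 = true := by
  decide +kernel


end Cfsg.Lib.CosetEnum.ONOut
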