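import Cfsg.Agent.Lib.CosetEnum.ONOut.Defs

/-! Kernel checks. -/

set_option autoImplicit false
set_option maxRecDepth 100000

namespace Cfsg.Lib.CosetEnum.ONOut

theorem hit12_ok : hitOK 12 = true := by
  decide +kernel

theorem hit13_ok : hitOK 13 = true := by
  decide +kernel

theorem hit14_ok : hitOK 14 = true := by
  decide +kernel

theorem hit15_ok : hitOK 15 = true := by
  decide +kernel

theorem hit16_ok : hitOK 16 = true := by
  decide +kernel

theorem hit17_ok : hitOK 17 = true := by
  decide +kernel


end Cfsg.Lib.CosetEnum.ONOut
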