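import Cfsg.Agent.Lib.CosetEnum.ONOut.Scan0
import Cfsg.Agent.Lib.CosetEnum.ONOut.Scan1
import Cfsg.Agent.Lib.CosetEnum.ONOut.Scan2
import Cfsg.Agent.Lib.CosetEnum.ONOut.Scan3
import Cfsg.Agent.Lib.CosetEnum.ONOut.Scan4
import Cfsg.Agent.Lib.CosetEnum.ONOut.Scan5

/-! Kernel checks. -/

set_option autoImplicit false

namespace Cfsg.Lib.CosetEnum.ONOut

theorem scan_ok : scanOK 122760 0 = true :=
  (scanOK_append (a := 61380) (b := 61380) (scanOK_append (a := 30690) (b := 30690) (scanOK_append (a := 15345) (b := 15345) (scanOK_append (a := 5115) (b := 10230) scan0_ok (scanOK_append (a := 5115) (b := 5115) scan1_ok scan2_ok)) (scanOK_append (a := 5115) (b := 10230) scan3_ok (scanOK_append (a := 5115) (b := 5115) scan4_ok scan5_ok))) (scanOK_append (a := 15345) (b := 15345) (scanOK_append (a := 5115) (b := 10230) scan6_ok (scanOK_append (a := 5115) (b := 5115) scan7_ok scan8_ok)) (scanOK_append (a := 5115) (b := 10230) scan9_ok (scanOK_append (a := 5115) (b := 5115) scan10_ok scan11_ok)))) (scanOK_append (a := 30690)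 (b := 30690) (scanOK_append (a := 15345) (b := 15345) (scanOK_append (a := 5115) (b := 10230) scan12_ok (scanOK_append (a := 5115) (b := 5115) scan13_ok scan14_ok)) (scanOK_append (a := 5115) (b := 10230) scan15_ok (scanOK_append (a := 5115) (b := 5115) scan16_ok scan17_ok))) (scanOK_append (a := 15345) (b := 15345) (scanOK_append (a := 5115) (b := 10230) scan18_ok (scanOK_append (a := 5115) (b := 5115) scan19_ok scan20_ok)) (scanOK_append (a := 5115) (b := 10230) scan21_ok (scanOK_append (a := 5115) (b := 5115) scan22_ok scan23_ok)))))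

end Cfsg.Lib.CosetEnum.ONOut
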