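import Cfsg.Agent.Lib.CosetEnum.BaseFix
import Cfsg.Agent.Lib.CosetEnum.ONMain.Data
import Cfsg.Agent.Lib.CosetEnum.ONBase.Data
import Cfsg.Agent.Lib.CosetEnum.ONOrb.Data
import Cfsg.Agent.Lib.CosetEnum.ONOut.Data

/-!
# Checks for the automorphisms of the O'Nan group
-/

set_option autoImplicit false

namespace Cfsg.Lib.CosetEnum.ONOut

/-- Read a word in the table. -/
noncomputable def owalk (w : List Nat) (i : Nat) : Nat := twalk ONMain.tabP 7 w i

/-- The base points. -/
noncomputable def bpts : List Nat := basePts [ONBase.level0, ONBase.level1, ONBase.level2]

/-- Two words have the same images of the base points. -/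
noncomputable def sameW (a b : List Nat) : Bool :=
  bpts.all fun p => Nat.beq (owalk a p) (owalk b p)

/-- All letters are numbers of generators. -/
noncomputable def letters (w : List Nat) : Bool := w.all fun g => Nat.blt g 7

/-- Substitute three words and their inverses for six letters. -/
def subW (U H X : List Nat) (w : List Nat) : List Nat := w.flatMap fun
  | 0 => U
  | 1 => H
  | 2 => X
  | 3 => U.reverse
  | 4 => H.reverse
  | _ => X.reverse

/-- A power of a word. -/
def rep (m : Nat) (w : List Nat) : List Nat := (List.replicate m w).flatten

/-- The only fixed point of the element of order nineteen is `0`; those of the element of order six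
are listed. -/
noncomputable def scanOK : Nat → Nat → Bool
  | 0, _ => true
  | m + 1, i => force i fun i =>
      (Nat.beq i 0 || !Nat.beq (owalk wordU i) i) &&
      (fixH.contains i || !Nat.beq (owalk wordH i) i) && scanOK m (i + 1)

theorem scanOK_append : ∀ {a b i : Nat},
    scanOK a i = true → scanOK b (i + a) = true → scanOK (a + b) i = true
  | 0, b, i, _, h => by simpa using h
  | a + 1, b, i, h, h' => by
    rw [scanOK, force_eq, Bool.and_eq_true] at h
    rw [show a + 1 + b = (a + b) + 1 by omega, scanOK, force_eq, Bool.and_eq_true]
    exact ⟨h.1, scanOK_append h.2 (by rwa [show i + 1 + a = i + (a + 1) by omega])⟩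

/-- The suborbits of a point. -/
noncomputable def labOf (z : Nat) : Bool × Bool :=
  (member ONOrb.orb0 ONOrb.pos0 58653 z, member ONOrb.orb1 ONOrb.pos1 52136 z)

/-- A point in a cycle. -/
noncomputable def cyc (j i : Nat) : Nat := cycTab.getP (19 * j + i)

/-- The cycles of the element of order nineteen on the suborbit of the second base point. -/
noncomputable def cycleOK : Nat → Nat → Bool
  | 0, _ => true
  | m + 1, k => force k fun k => force (cycPos.getP k) fun c =>
      Nat.blt c 5586 && Nat.beq (cycTab.getP c) (ONBase.orb1.getP k / B / B) && cycleOK m (k + 1)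

/-- The cycles are cycles, and are told apart by labels. -/
noncomputable def witOK : Bool :=
  Nat.beq repJ.length 294 && repJ.all letters &&
  (List.range 294).all fun j =>
    ((List.range 18).all fun i => Nat.beq (owalk wordU (cyc j i)) (cyc j (i + 1))) &&
    Nat.blt (cyc j 0) 122760 && Nat.beq (owalk (repJ.getD j []) 0) 0 &&
    Nat.beq (owalk (repJ.getD j []) 16) (cyc j 0) &&
    (Nat.beq j 0 || force (witJ.getD j 0) fun w => Nat.blt w 19 &&
      !(labOf (owalk wordR (cyc 0 w)) ==
        labOf (owalk wordR (owalk (repJ.getD j []).reverse (cyc j w)))))

/-- The two point stabiliser is listed. -/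
noncomputable def kOK : Bool :=
  Nat.beq kPts.length 672 && Nat.beq kWords.length 672 && kPts.Nodup &&
  (List.range 672).all fun k => force (kPts.getD k 0) fun p => letters (kWords.getD k []) &&
    Nat.beq (owalk (kWords.getD k []) 0) 0 && Nat.beq (owalk (kWords.getD k []) 16) 16 &&
    Nat.beq (owalk (kWords.getD k []) 75) p

/-- Only the identity of the two point stabiliser commutes with the element of order nineteen. -/
noncomputable def kCommOK : Bool :=
  (List.range 672).all fun k => Nat.beq (kPts.getD k 0) 75 ||
    !sameW (wordU ++ kWords.getD k []) (kWords.getD k [] ++ wordU)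

/-- The possible images of the first two base points are listed. -/
noncomputable def pairOK : Bool :=
  Nat.beq pairWords.length pairPts.length && pairWords.all letters && repF.all letters &&
  Nat.beq repF.length fixH.length &&
  ((List.range fixH.length).all fun i => Nat.beq (owalk (repF.getD i []) (fixH.getD i 0)) 0 &&
    fixH.all fun b => !(member ONBase.orb1 ONBase.pos1 5586 (owalk (repF.getD i []) b)) ||
      pairPts.contains (fixH.getD i 0, b)) &&
  (List.range pairPts.length).all fun q =>
    Nat.beq (owalk (pairWords.getD q []) 0) (pairPts.getD q (0, 0)).1 &&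
      Nat.beq (owalk (pairWords.getD q []) 16) (pairPts.getD q (0, 0)).2

/-- The solutions over one pair are candidates. -/
noncomputable def hitOK (q : Nat) : Bool :=
  force' (pairWords.getD q []) fun t => force' (t ++ wordH ++ t.reverse) fun hp =>
    (List.range 672).all fun k => force' (kWords.getD k []) fun w =>
      !Nat.beq (owalk hp (kPts.getD k 0)) (owalk (wordH ++ w) 75) ||
        force ((pairHits.getD q []).getD k 0) fun i => Nat.blt i 72 &&
          sameW (w ++ t) (candWords.getD i [])
where
  /-- Evaluate an argument once. -/
  force' {α β : Type} (a : α) (f : α → β) : β := f a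

/-- An exclusion test: some candidate relation fails for `U` and every candidate. -/
noncomputable def exclOK (U : List Nat) (keep : List Nat) : Bool :=
  (List.range 72).all fun i => keep.contains i ||
    !sameW (rep 11 (subW U wordH (candWords.getD i []) [2, 0])) [] ||
    !sameW (rep 2 (subW U wordH (candWords.getD i []) [2, 2, 0])) []

/-- Facts on the three elements. -/
noncomputable def elemsOK : Bool :=
  letters wordU && letters wordH && letters wordX && letters wordX2 && letters wordR &&
  candWords.all letters && Nat.beq candWords.length 72 && Nat.beq genW.length 7 &&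
  Nat.beq (owalk wordR 16) 0 && Nat.beq (owalk wordU 0) 0 && Nat.beq (owalk wordH 16) 16 &&
  sameW (rep 19 wordU) [] && !sameW wordU [] &&
  sameW (wordH.reverse ++ wordU ++ wordH) (rep 8 wordU) &&
  sameW (wordX ++ wordH) (wordH ++ wordX) &&
  sameW (rep 11 (subW wordU wordH wordX [2, 0])) [] &&
  sameW (rep 2 (subW wordU wordH wordX [2, 2, 0])) [] &&
  !sameW wordX wordX2 &&
  ((List.range 7).all fun g => (genW.getD g []).all (fun l => Nat.blt l 6) &&
    sameW (subW wordU wordH wordX (genW.getD g [])) [g]) &&
  (List.range 72).all fun i =>
    sameW (candWords.getD i []) [] ||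
      !sameW (wordU ++ candWords.getD i []) (candWords.getD i [] ++ wordU)

/-- The images of the generators under the outer automorphism. -/
noncomputable def outImg (g : Nat) : List Nat := subW wordU wordH wordX2 (genW.getD g [])

/-- The images satisfy the relators. -/
noncomputable def outOK (R : List (List Nat)) : Bool :=
  (R.all fun r => (r.all fun g => Nat.blt g 7) && sameW (r.flatMap outImg) []) &&
  ((List.range 7).all fun g => sameW (outImg g ++ outImg g) []) &&
  sameW (wordU.flatMap outImg) wordU && sameW (wordH.flatMap outImg) wordH &&
  sameW (wordX.flatMap outImg) wordX2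

end Cfsg.Lib.CosetEnum.ONOut
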