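import Cfsg.Agent.Lib.CosetEnum.ONOut.Defs

/-! Kernel checks. -/

set_option autoImplicit false
set_option maxRecDepth 100000

namespace Cfsg.Lib.CosetEnum.ONOut

theorem scan0_ok : scanOK 5115 0 = true := by
  decide +kernel

theorem scan1_ok : scanOK 5115 5115 = true := by
  decide +kernel

theorem scan2_ok : scanOK 5115 10230 = true := by
  decide +kernel

theorem scan3_ok : scanOK 5115 15345 = true := by
  decide +kernel


end Cfsg.Lib.CosetEnum.ONOut
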